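import Cfsg.Agent.H715.Fpr.Row4_m3
import Cfsg.Agent.H377.SporB
import Cfsg.Agent.H547.SelfCent.Base
import Cfsg.Agent.H940.EngData
import Cfsg.Agent.H149.Sp.Baby
import Cfsg.Agent.H149.Sp.Th
import Cfsg.Agent.H393.Iso.He
import Cfsg.Agent.H256.Sep.FiData
import Cfsg.Agent.H820.ElB
import Cfsg.Agent.KFacts.Baby.RowB_m3
import Cfsg.Agent.FastGrp
import Cfsg.Agent.Prune
set_option linter.all false
open scoped Cfsg.Agent.FastGrp

-- part: H256/Sep/Weak
section
/-!
# Weak local data (helper256)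

`WD` : a test with the order `s` of the simple factor only: the order `m` of a subgroup with `r ∣ m` is `s · k`, where `s` is `r` or the
order of a simple group and the exponents of the primes in `k` avoid the gaps computed from a multiple of `|C(R)|` and of
`|N(R)|`. `ordersG`, `apartG` : the enumeration with an arbitrary sound test.
-/

set_option autoImplicit false

namespace Cfsg.Agent.H256.Sep

open Subgroup Cfsg.Agent.OrdDiv Cfsg.Agent.H940 Cfsg.Agent.H940.Eng Cfsg.Agent.H940.MaxCls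

universe u

structure WD where
  r : ℕ
  ss : List ℕ
  gaps : List (ℕ × ℕ)

def WD.feas (F : WD) (m : ℕ) : Bool := F.ss.any fun s => Nat.beq (m % s) 0 && gapOK F.gaps (m / s)

def WD.bad (F : WD) (m : ℕ) : Bool := Nat.beq (m % F.r) 0 && !(F.feas m)

/-- `gd` : entries `(p, a, b, j)`: the exponents `e ∈ [a, b)` of `p` are excluded, `p ^ (j + 1)` does not divide `N / r` -/
def WD.ok (F : WD) (ld : LD) (ords : List ℕ) (gd : List (ℕ × ℕ × ℕ × ℕ)) : Bool :=
  F.r == ld.r && ((ld.r :: ords).all fun s => s % ld.r != 0 || F.ss.contains s) &&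
    F.gaps == (gd.map fun x => (x.1 ^ x.2.1, x.1 ^ x.2.2.1)) &&
    gd.all fun x => isPrimeB x.1 && (ld.N / ld.r) % x.1 ^ (x.2.2.2 + 1) != 0 &&
      (List.range (x.2.2.1 - x.2.1)).all fun i => (List.range (x.2.2.2 + 1)).all fun j =>
        Nat.blt (x.2.1 + i) j || !(okexp ld.r ld.C x.1 (x.2.1 + i - j))

section

variable {G : Type u} [Group G] {l : List (ℕ × ℕ)} {n : ℕ} {ords : List ℕ} {loc : List LD}

theorem WD.feas_of (c : Ctx G l n ords loc) {ld : LD} (hld : ld ∈ loc) {F : WD} {gd : List (ℕ × ℕ × ℕ × ℕ)}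
    (hF : F.ok ld ords gd = true) {H : Subgroup G} (hr : ld.r ∣ Nat.card H) : F.feas (Nat.card H) = true := by
  have := c.fin
  have hloc := c.loc ld hld
  obtain ⟨k, s, t, e1, e2, e3, e4, e5, e6, e7, e8, -⟩ := struct_sub c.val c.card c.ords hloc hr
  unfold WD.ok at hF
  rw [Bool.and_eq_true, Bool.and_eq_true, Bool.and_eq_true, beq_iff_eq, List.all_eq_true, beq_iff_eq, List.all_eq_true] at hF
  obtain ⟨⟨⟨f1, f3⟩, f4⟩, f5⟩ := hF
  have hHpos : 0 < Nat.card H := Nat.card_pos
  have hspos : 0 < s := Nat.pos_of_ne_zero (by rintro rfl; rw [mul_zero, zero_mul] at e1; omega)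
  have htpos : t ≠ 0 := by rintro rfl; rw [mul_zero] at e1; omega
  have hkpos : k ≠ 0 := by rintro rfl; rw [zero_mul, zero_mul] at e1; omega
  unfold WD.feas
  rw [List.any_eq_true]
  refine ⟨s, ?_, ?_⟩
  · have h1 := f3 s e3
    rw [Bool.or_eq_true, bne_iff_ne, List.contains_iff_mem] at h1
    exact h1.resolve_left fun h => h (Nat.mod_eq_zero_of_dvd e4)
  · have hk : Nat.card H / s = k * t := by
      apply Nat.div_eq_of_eq_mul_left hspos
      rw [e1]
      ring
    rw [Bool.and_eq_true, Nat.beq_eq]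
    refine ⟨Nat.mod_eq_zero_of_dvd ⟨k * t, by rw [e1]; ring⟩, ?_⟩
    change gapOK F.gaps (Nat.card H / s) = true
    rw [hk]
    unfold gapOK
    rw [List.all_eq_true]
    intro x hx
    rw [f4, List.mem_map] at hx
    obtain ⟨z, hz, rfl⟩ := hx
    have h1 := f5 z hz
    rw [Bool.and_eq_true, Bool.and_eq_true, List.all_eq_true, bne_iff_ne] at h1
    obtain ⟨⟨hp, hN⟩, h2⟩ := h1
    have hpp := prime_of hp
    rw [Bool.or_eq_true, Bool.not_eq_true']
    by_contra hcon
    push Not at hcon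
    obtain ⟨h3, h4⟩ := hcon
    have h3' : z.1 ^ z.2.1 ∣ k * t := by
      have : Nat.beq ((k * t) % z.1 ^ z.2.1) 0 = true := by
        cases h : Nat.beq ((k * t) % z.1 ^ z.2.1) 0
        · exact absurd h h3
        · rfl
      exact Nat.dvd_of_mod_eq_zero (Nat.eq_of_beq_eq_true this)
    have h4' : ¬ z.1 ^ z.2.2.1 ∣ k * t := by
      intro h
      apply h4
      rw [Nat.beq_eq]
      exact Nat.mod_eq_zero_of_dvd h
    have hkt : k * t ≠ 0 := Nat.mul_ne_zero hkpos htpos
    have h5 : z.2.1 ≤ (k * t).factorization z.1 := (hpp.pow_dvd_iff_le_factorization hkt).1 h3'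
    have h6 : (k * t).factorization z.1 < z.2.2.1 := by
      by_contra hlt
      push Not at hlt
      exact h4' ((hpp.pow_dvd_iff_le_factorization hkt).2 hlt)
    have h7 : (k * t).factorization z.1 = k.factorization z.1 + t.factorization z.1 := by
      rw [Nat.factorization_mul hkpos htpos, Finsupp.add_apply]
    have h8 : t.factorization z.1 ≤ z.2.2.2 := by
      by_contra hlt
      push Not at hlt
      apply hN
      exact Nat.mod_eq_zero_of_dvd (((hpp.pow_dvd_iff_le_factorization htpos).2 hlt).trans e2)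
    have h9 := h2 ((k * t).factorization z.1 - z.2.1) (List.mem_range.2 (by omega))
    rw [List.all_eq_true] at h9
    have h10 := h9 (t.factorization z.1) (List.mem_range.2 (by omega))
    rw [Nat.add_sub_cancel' h5, Bool.or_eq_true] at h10
    rcases h10 with h10 | h10
    · rw [Nat.blt_eq] at h10
      omega
    · rw [h7, Nat.add_sub_cancel, e7 z.1 hpp] at h10
      exact absurd h10 (by decide)

theorem WD.bad_eq (c : Ctx G l n ords loc) {ld : LD} (hld : ld ∈ loc) {F : WD} {gd : List (ℕ × ℕ × ℕ × ℕ)}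
    (hF : F.ok ld ords gd = true) (H : Subgroup G) : F.bad (Nat.card H) = false := by
  unfold WD.bad
  rw [Bool.and_eq_false_iff]
  by_cases h5 : ld.r ∣ Nat.card H
  · right
    rw [Bool.not_eq_false']
    exact F.feas_of c hld hF h5
  · left
    have h6 : F.r = ld.r := by
      have h7 := hF
      unfold WD.ok at h7
      simp only [Bool.and_eq_true, beq_iff_eq] at h7
      exact h7.1.1.1
    rw [h6]
    cases h : Nat.beq (Nat.card H % ld.r) 0
    · rfl
    · exact absurd (Nat.dvd_of_mod_eq_zero (Nat.eq_of_beq_eq_true h)) h5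

end

/-! ### kernel friendly forms -/

def ssK (g : List (ℕ × ℕ)) (m : ℕ) (l : List ℕ) : Bool :=
  List.rec (motive := fun _ => Bool) false
    (fun s _ ih => bc (Nat.beq (Nat.mod m s) 0) (bc (frc (Nat.div m s) (fun k => gapK k g)) true ih) ih) l

def badW1 (m : ℕ) (F : WD) : Bool :=
  bc (Nat.beq (Nat.mod m F.r) 0) (bc (ssK F.gaps m F.ss) false true) false

def badWs (l : List WD) (m : ℕ) : Bool :=
  List.rec (motive := fun _ => Bool) false (fun F _ ih => bc (badW1 m F) true ih) l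

theorem ssK_eq (g : List (ℕ × ℕ)) (m : ℕ) (l : List ℕ) :
    ssK g m l = l.any fun s => Nat.beq (m % s) 0 && gapOK g (m / s) := by
  induction l with
  | nil => rfl
  | cons s l ih =>
    have h1 : ssK g m (s :: l) = bc (Nat.beq (Nat.mod m s) 0)
      (bc (frc (Nat.div m s) (fun k => gapK k g)) true (ssK g m l)) (ssK g m l) := rfl
    rw [h1, frc_eq, gapK_eq, ih, List.any_cons]
    change bc (Nat.beq (m % s) 0) (bc (gapOK g (m / s)) true _) _ = _
    cases Nat.beq (m % s) 0 <;> cases gapOK g (m / s) <;> simp [bc_true, bc_false]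

theorem badW1_eq (m : ℕ) (F : WD) : badW1 m F = F.bad m := by
  unfold badW1 WD.bad WD.feas
  rw [ssK_eq]
  change bc (Nat.beq (m % F.r) 0) _ _ = _
  cases Nat.beq (m % F.r) 0 <;>
    cases (F.ss.any fun s => Nat.beq (m % s) 0 && gapOK F.gaps (m / s)) <;> simp [bc_true, bc_false]

theorem badWs_false {l : List WD} {m : ℕ} (h : ∀ F ∈ l, F.bad m = false) : badWs l m = false := by
  induction l with
  | nil => rfl
  | cons F l ih =>
    have h1 : badWs (F :: l) m = bc (badW1 m F) true (badWs l m) := rfl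
    rw [h1, badW1_eq, h F List.mem_cons_self, bc_false]
    exact ih fun F' hF' => h F' (List.mem_cons_of_mem _ hF')

/-- the test of one divisor `d = |G : K|` with an arbitrary test `B` of the order of `K` -/
def tstG (n : ℕ) (os full : List ℕ) (bd : ℕ) (B : ℕ → Bool) (d : ℕ) : Bool :=
  bc (fullK d full) true (bc (Nat.beq d 1) true (bc (Nat.ble d bd) (bc (Nat.beq (Nat.mod d.factorial n) 0)
    (frc (Nat.div n d) fun m => bc (B m) true (memK m os)) true)
    (frc (Nat.div n d) fun m => bc (B m) true (memK m os))))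

/-- the list of the possible orders of the proper overgroups -/
def chkG (n a : ℕ) (lD : List (ℕ × ℕ)) (os full : List ℕ) (bd : ℕ) (B : ℕ → Bool) : Bool :=
  (lD.all fun x => isPrimeB x.1) && a * prodl lD == n && allD (tstG n os full bd B) lD 1

section

variable {G : Type u} [Group G] {l : List (ℕ × ℕ)} {n : ℕ} {ords : List ℕ} {loc : List LD}

theorem ordersG (c : Ctx G l n ords loc) {B : ℕ → Bool} (hB : ∀ K : Subgroup G, B (Nat.card K) = false) {a : ℕ}
    (lD : List (ℕ × ℕ)) (os full : List ℕ) (bd : ℕ) (hc : chkG n a lD os full bd B = true) {K : Subgroup G}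
    (ha : a ∣ Nat.card K) (hf : ∀ p ∈ full, Full p K) (hK : K ≠ ⊤) : Nat.card K ∈ os := by
  have := c.fin
  have := c.simple
  unfold chkG at hc
  rw [Bool.and_eq_true, Bool.and_eq_true, List.all_eq_true, beq_iff_eq] at hc
  obtain ⟨⟨h1, h2⟩, h3⟩ := hc
  have hcard := card_mul_index K
  rw [c.card] at hcard
  have hpos : 0 < K.index := Nat.pos_of_ne_zero index_ne_zero_of_finite
  have hapos : 0 < a := Nat.pos_of_ne_zero (by
    rintro rfl
    rw [zero_mul] at h2
    exact (valid_pos c.val).ne h2)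
  have hd : K.index ∣ prodl lD := by
    obtain ⟨z, hz⟩ := ha
    have h4 : z * K.index = prodl lD := by
      apply Nat.eq_of_mul_eq_mul_left hapos
      rw [h2, ← hcard, hz]
      ring
    exact ⟨z, by rw [← h4]; ring⟩
  have h5 := allD_sound (fun x hx => prime_of (h1 x hx)) h3 hd
  rw [one_mul] at h5
  have h6 : Nat.div n K.index = Nat.card K := Nat.div_eq_of_eq_mul_left hpos hcard.symm
  have hmem : bc (B (Nat.card K)) true (memK (Nat.card K) os) = true → Nat.card K ∈ os := by
    intro h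
    rw [hB K, bc_false] at h
    exact memK_true h
  unfold tstG at h5
  rw [frc_eq, h6] at h5
  cases hfu : fullK K.index full
  · rw [hfu, bc_false] at h5
    cases h1' : Nat.beq K.index 1
    · rw [h1', bc_false] at h5
      cases h7 : Nat.ble K.index bd
      · rw [h7, bc_false] at h5
        exact hmem h5
      · rw [h7, bc_true] at h5
        have h8 : Nat.beq (Nat.mod K.index.factorial n) 0 = true := by
          have h9 : K.index.factorial % n = 0 := Nat.mod_eq_zero_of_dvd (c.card ▸ MaxCls.card_dvd_factorial hK)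
          change Nat.beq (K.index.factorial % n) 0 = true
          rw [h9]
          rfl
        rw [h8, bc_true] at h5
        exact hmem h5
    · exact absurd (index_eq_one.1 (Nat.eq_of_beq_eq_true h1')) hK
  · obtain ⟨p, hp, h7⟩ := fullK_true hfu
    obtain ⟨hpp, P, hP⟩ := hf p hp
    exact absurd (mod_eq_one_of hpp.out (MaxCls.index_modEq_one P hP)) h7

/-- the possible orders of the proper subgroups containing `A` and a conjugate of `A'` -/
theorem ordersG₂ (c : Ctx G l n ords loc) {B : ℕ → Bool} (hB : ∀ K : Subgroup G, B (Nat.card K) = false)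
    {A A' : Subgroup G} {a a' m : ℕ} (ha : a ∣ Nat.card A) (ha' : a' ∣ Nat.card A') (hm : Nat.lcm a a' = m)
    (lD : List (ℕ × ℕ)) (os fA fB : List ℕ) (bd : ℕ) (hfA : ∀ p ∈ fA, Full p A) (hfB : ∀ p ∈ fB, Full p A')
    (hc : chkG n m lD os (fA ++ fB) bd B = true) {g : G} {K : Subgroup G} (h1 : A ≤ K)
    (h2 : ∀ x ∈ A', g * x * g⁻¹ ∈ K) (hK : K ≠ ⊤) : Nat.card K ∈ os := by
  have := c.fin
  have hb' : a' ∣ Nat.card K := by
    refine ha'.trans ?_
    rw [← MaxCls.card_map_conj g]
    exact card_dvd_of_le (MaxCls.map_conj_le h2)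
  refine ordersG c hB lD os (fA ++ fB) bd hc (hm ▸ Nat.lcm_dvd (ha.trans (card_dvd_of_le h1)) hb') (fun p hp => ?_) hK
  rcases List.mem_append.1 hp with hp | hp
  · exact (hfA p hp).mono h1
  · exact (hfB p hp).conj h2

/-- the test for pairs -/
theorem apartG (c : Ctx G l n ords loc) {B : ℕ → Bool} (hB : ∀ K : Subgroup G, B (Nat.card K) = false)
    {A A' : Subgroup G} {a a' m : ℕ} (ha : a ∣ Nat.card A) (ha' : a' ∣ Nat.card A') (hm : Nat.lcm a a' = m)
    (lD : List (ℕ × ℕ)) (fA fB : List ℕ) (bd : ℕ) (hfA : ∀ p ∈ fA, Full p A) (hfB : ∀ p ∈ fB, Full p A')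
    (hc : chkG n m lD [] (fA ++ fB) bd B = true) : MaxCls.Apart A A' := by
  intro g K h1 h2
  by_contra hK
  exact List.not_mem_nil (ordersG₂ c hB ha ha' hm lD [] fA fB bd hfA hfB hc h1 h2 hK)

/-- apart from the orders of the overgroups of the first one -/
theorem apart_of_orders [Finite G] (hn : Nat.card G = n) {A A' : Subgroup G} {a' : ℕ} (ha' : a' ∣ Nat.card A')
    {os fB : List ℕ} (hfB : ∀ p ∈ fB, Full p A') (hA : ∀ K : Subgroup G, A ≤ K → K ≠ ⊤ → Nat.card K ∈ os)
    (hc : (os.all fun m => m % a' != 0 || fB.any fun p => (n / m) % p != 1 % p) = true) : MaxCls.Apart A A' := by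
  intro g K h1 h2
  by_contra hK
  have h3 := hA K h1 hK
  rw [List.all_eq_true] at hc
  have h4 := hc _ h3
  rw [Bool.or_eq_true, bne_iff_ne, List.any_eq_true] at h4
  rcases h4 with h4 | ⟨p, hp, h4⟩
  · apply h4
    apply Nat.mod_eq_zero_of_dvd
    refine ha'.trans ?_
    rw [← MaxCls.card_map_conj g]
    exact card_dvd_of_le (MaxCls.map_conj_le h2)
  · rw [bne_iff_ne] at h4
    apply h4
    obtain ⟨hpp, P, hP⟩ := (hfB p hp).conj h2
    have h5 := MaxCls.index_modEq_one P hP
    have h6 : n / Nat.card K = K.index := by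
      rw [← hn, ← card_mul_index K]
      exact Nat.mul_div_cancel_left _ Nat.card_pos
    rw [h6]
    exact h5

end

/-! ### five pairwise apart subgroups -/

section

variable {G : Type u} [Group G]

theorem sep_five {A₁ A₂ A₃ A₄ A₅ : Subgroup G} (h₁ : A₁ ≠ ⊤) (h₂ : A₂ ≠ ⊤) (h₃ : A₃ ≠ ⊤) (h₄ : A₄ ≠ ⊤) (h₅ : A₅ ≠ ⊤)
    (h12 : MaxCls.Apart A₁ A₂) (h13 : MaxCls.Apart A₁ A₃) (h14 : MaxCls.Apart A₁ A₄) (h15 : MaxCls.Apart A₁ A₅)
    (h23 : MaxCls.Apart A₂ A₃) (h24 : MaxCls.Apart A₂ A₄) (h25 : MaxCls.Apart A₂ A₅) (h34 : MaxCls.Apart A₃ A₄)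
    (h35 : MaxCls.Apart A₃ A₅) (h45 : MaxCls.Apart A₄ A₅) : MaxCls.Sep 5 G := by
  refine ⟨![A₁, A₂, A₃, A₄, A₅], ?_, ?_⟩
  · intro i
    fin_cases i <;> assumption
  · intro i j hij
    fin_cases i <;> fin_cases j <;>
      first | exact absurd hij (by decide) | exact h12 | exact h13 | exact h14 | exact h15 | exact h23 | exact h24 |
        exact h25 | exact h34 | exact h35 | exact h45

/-- if no proper subgroup contains `X` and conjugates of `Y` and `Z` then some pair of overgroups is apart -/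
theorem pair_of_three [Finite G] {X Y Z : Subgroup G} (hX : X ≠ ⊤) (hY : Y ≠ ⊤) (hZ : Z ≠ ⊤)
    (h : ∀ K : Subgroup G, K ≠ ⊤ → X ≤ K → (∃ g : G, ∀ x ∈ Y, g * x * g⁻¹ ∈ K) → (∃ g : G, ∀ x ∈ Z, g * x * g⁻¹ ∈ K) → False) :
    (∃ X' Y' : Subgroup G, X ≤ X' ∧ Y ≤ Y' ∧ X' ≠ ⊤ ∧ Y' ≠ ⊤ ∧ MaxCls.Apart X' Y') ∨
      (∃ X' Z' : Subgroup G, X ≤ X' ∧ Z ≤ Z' ∧ X' ≠ ⊤ ∧ Z' ≠ ⊤ ∧ MaxCls.Apart X' Z') := by
  obtain ⟨MX, hMX, hXM⟩ := exists_coatom_ge hX
  obtain ⟨MY, hMY, hYM⟩ := exists_coatom_ge hY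
  obtain ⟨MZ, hMZ, hZM⟩ := exists_coatom_ge hZ
  have key : ∀ {M W : Subgroup G}, ¬ MaxCls.Apart MX M → W ≤ M → ∃ g : G, ∀ x ∈ W, g * x * g⁻¹ ∈ MX := by
    intro M W hM hW
    unfold MaxCls.Apart at hM
    push Not at hM
    obtain ⟨g, K, h1, h2, h3⟩ := hM
    rcases eq_or_lt_of_le h1 with h4 | h4
    · exact ⟨g, fun x hx => h4 ▸ h2 x (hW hx)⟩
    · exact absurd (hMX.2 K h4) h3
  by_cases h1 : MaxCls.Apart MX MY
  · exact Or.inl ⟨MX, MY, hXM, hYM, hMX.1, hMY.1, h1⟩
  by_cases h2 : MaxCls.Apart MX MZ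
  · exact Or.inr ⟨MX, MZ, hXM, hZM, hMX.1, hMZ.1, h2⟩
  exact (h MX hMX.1 hXM (key h1 hYM) (key h2 hZM)).elim

end

end Cfsg.Agent.H256.Sep
end

-- part: H256/Sep/BabyM
section
/-!
# Commuting elements of the Monster and of the Baby Monster (helper256)

* `false_three`, `false_five`, `false_seven` : in the Monster an element of prime order `p` (`p = 19, 23, 31`), an element
  of order 3, 5 or 7 and an involution of the class `2A` do not commute pairwise, if `p`-elements of `Th`, `Fi24'`, `HN`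
  commute with no involution and `p` divides the order of no other section;
* `ncomm_three`, `ncomm_five`, `ncomm_seven` : the same for the Baby Monster.
-/

set_option autoImplicit false
set_option maxRecDepth 100000

namespace Cfsg.Agent.H256.Sep.BabyM

open Cfsg Cfsg.Agent.MonsterX Cfsg.Agent.MonsterX.InstData Cfsg.Agent.MonsterX.MainPack Cfsg.Agent.MonsterU
open Cfsg.Agent.MonsterP Cfsg.Agent.MonsterN Cfsg.Agent.LThree Cfsg.Agent.LThreeMB Cfsg.Agent.MThirteen
open Cfsg.Agent.MonsterX.MainBasic Cfsg.Agent.MonsterX.MainSimple Cfsg.Agent.MonsterX.Model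
open Cfsg.Agent.MonsterU.Ch
open Cfsg.Agent.MonsterU.Lam2 (L2)
open Cfsg.Spor (Co1)
open Subgroup (centralizer mem_centralizer_singleton_iff center zpowers)
open Cfsg.Agent.H393.Iso (NA)
open Cfsg.Agent.H377.SporB (cover orderOf_t card_b finite_b exists_five iso_of_inputs)

universe u

section general

variable {G : Type u} [Group G]

theorem orderOf_mk_XX {r q : ℕ} (hr : r.Prime) (hq : q.Prime) (hrq : r ≠ q) {y g : G} (hy : orderOf y = q)
    (hg : orderOf g = r) (h : g * y = y * g) : orderOf (mk y h) = r := by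
  have := Fact.mk hr
  apply orderOf_eq_prime
  · have h1 : (⟨g, mem_centralizer_singleton_iff.2 h⟩ : ↥(centralizer ({y} : Set G))) ^ r = 1 :=
      Subtype.ext (by rw [SubmonoidClass.coe_pow, ← hg, pow_orderOf_eq_one]; rfl)
    show (QuotientGroup.mk (⟨g, mem_centralizer_singleton_iff.2 h⟩ : ↥(centralizer ({y} : Set G))) : XX y) ^ r = 1
    rw [← QuotientGroup.mk_pow, h1]
    rfl
  · intro h1
    obtain ⟨i, hi⟩ := (mk_eq_one h).1 h1
    have h2 : g ^ q = 1 := by
      rw [← hi, ← zpow_natCast, ← zpow_mul, mul_comm, zpow_mul, zpow_natCast, ← hy, pow_orderOf_eq_one, one_zpow]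
    have h3 : r ∣ q := by rw [← hg]; exact orderOf_dvd_of_pow_eq_one h2
    exact hrq ((Nat.prime_dvd_prime_iff_eq hr hq).1 h3)

/-- commuting elements in `C(y) / ⟨y⟩` -/
theorem false_of_NA {q p : ℕ} (hq : q.Prime) (hp : p.Prime) (hpq : p ≠ q) (hq2 : 2 ≠ q) {y x t : G}
    (hy : orderOf y = q) (hx : orderOf x = p) (ht : orderOf t = 2) (hxy : x * y = y * x) (hty : t * y = y * t)
    (hxt : x * t = t * x) (h : NA p (XX y)) : False := by
  refine h (mk y hxy) (mk y hty) (orderOf_mk_XX hp hq hpq hy hx hxy) (orderOf_mk_XX Nat.prime_two hq hq2 hy ht hty) ?_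
  have h1 : (x * t) * y = y * (x * t) := by rw [mul_assoc, hty, ← mul_assoc, hxy, mul_assoc]
  have h2 : (t * x) * y = y * (t * x) := by rw [mul_assoc, hxy, ← mul_assoc, hty, mul_assoc]
  rw [mk_mul hxy hty h1, mk_mul hty hxy h2]
  exact mk_congr h1 h2 hxt

theorem na_of_not_dvd {X : Type*} [Group X] [Finite X] {p : ℕ} (h : ¬ p ∣ Nat.card X) : NA p X := fun x _ hx _ _ =>
  h (by rw [← hx]; exact orderOf_dvd_natCard x)

end general

/-! ### elements of order 3 -/

theorem not_sq_dvd {p : ℕ} (h : ¬ p ^ 2 ∣ 808017424794512875886459904961710757005754368000000000) :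
    ¬ p ^ (1 + 1) ∣ Nat.card ↥InstData.M.G := by
  rw [MThirteen.Row.card_M]
  exact h

theorem div_one {p q : ℕ} (h : ¬ q ∣ p - 1) : ∀ i, 1 ≤ i → i ≤ 1 → ¬ q ∣ p ^ i - 1 := by
  intro i h1 h2
  obtain rfl : i = 1 := by omega
  rwa [pow_one]

/-- fixed rank 0 -/
theorem zero_three {p q : ℕ} (hp : p.Prime) (hq : q.Prime) (hp3 : p ≠ 3) (hp2 : p ≠ 2) (hqp : q ≠ p) (hqd : ¬ q ∣ p - 1)
    (hM : ¬ p ^ 2 ∣ 808017424794512875886459904961710757005754368000000000) (hqS : q ∣ 448345497600)
    (hpS : ¬ p ∣ 448345497600) {x : centralizer ({KDone.K.z} : Set ↥InstData.M.G)} (hx : orderOf x = 3)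
    (hfr : fr (KChart.pi LThreeB.Row.cent x) = 1) :
    ¬ p ∣ Nat.card ↥(centralizer ({(x : ↥InstData.M.G)} : Set ↥InstData.M.G)) := by
  have hfin : Finite ↥InstData.M.G := MThirteen.Row.finite
  have hsim : IsSimpleGroup ↥InstData.M.G := MThirteen.Row.simple
  have : Fact p.Prime := ⟨hp⟩
  have : Fact q.Prime := ⟨hq⟩
  have h := KChart.chart KDone.lft LThreeB.Row.cent
  obtain ⟨e⟩ := CoOneFin.coOne.suz _ (orderOf_pi h hx) hfr
  have hs := Cfsg.Agent.S1694.result
  have hc : Nat.card (XX (KChart.pi LThreeB.Row.cent x)) = 448345497600 := (Nat.card_congr e.toEquiv).trans hs.2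
  refine not_dvd_zero (r := 3) (p := p) (q := q) (m := 1) Nat.prime_three (by decide) hp3 hp2
    hqp (div_one hqd) (not_sq_dvd hM) h hx hfr ?_ ?_ ?_ ?_ ?_ ?_
  · intro d hd hc
    exact LThreeMB.isolated h MThirteen.Row.trNe hx hfr d hd hc
  · exact (MulEquiv.isSimpleGroup_congr e).2 hs.1
  · rw [hc]; decide
  · rw [hc]; exact hqS
  · rw [hc]; exact hpS
  · obtain ⟨k, h1, h2⟩ := MThirteen.Row.exists_sq_z CoOneFin.coOne hx hfr
    exact ⟨k, h2, h1⟩

theorem cases_in {p q : ℕ} (hp : p.Prime) (hq : q.Prime) (hp3 : p ≠ 3) (hp2 : p ≠ 2) (hqp : q ≠ p) (hqd : ¬ q ∣ p - 1)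
    (hM : ¬ p ^ 2 ∣ 808017424794512875886459904961710757005754368000000000) (hqS : q ∣ 448345497600)
    (hpS : ¬ p ∣ 448345497600) {x : centralizer ({KDone.K.z} : Set ↥InstData.M.G)} (hx : orderOf x = 3) :
    (¬ p ∣ Nat.card ↥(centralizer ({(x : ↥InstData.M.G)} : Set ↥InstData.M.G))) ∨
      Spor.IsoTh (XX (x : ↥InstData.M.G)) ∨ Spor.IsoFi24' (XX (x : ↥InstData.M.G)) := by
  have hfin : Finite ↥InstData.M.G := MThirteen.Row.finite
  have hsim : IsSimpleGroup ↥InstData.M.G := MThirteen.Row.simple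
  have h := KChart.chart KDone.lft LThreeB.Row.cent
  have I := CoOneFin.coOne
  rcases I.ranks _ (orderOf_pi h hx) with h1 | h1 | h1
  · exact Or.inl (zero_three hp hq hp3 hp2 hqp hqd hM hqS hpS hx h1)
  · left
    obtain ⟨x₀, u, g, hx₀, hfr₀, huz, hux, hne, hg⟩ := MThirteen.Row.hasPair
    obtain ⟨k, hk⟩ := conj_six h MThirteen.Row.trNe I.ranks I.six (fun x hx h2 => by
      have := good_of_inputs h I hx h2
      exact ⟨this.simple, this.nc⟩) hx₀ hfr₀ huz hux hne hg hx h1
    refine not_dvd_conj (i := 1) Nat.prime_three (by rw [Subgroup.orderOf_coe, hx]) (by rw [Subgroup.orderOf_coe, hx₀])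
      (by rw [pow_one]; exact hk) (zero_three hp hq hp3 hp2 hqp hqd hM hqS hpS hx₀ hfr₀)
  · exact Or.inr (iso_of_inputs h I hx h1)

/-- **Elements of order 3.** -/
theorem cases_three {p q : ℕ} (hp : p.Prime) (hq : q.Prime) (hp3 : p ≠ 3) (hp2 : p ≠ 2) (hqp : q ≠ p) (hqd : ¬ q ∣ p - 1)
    (hM : ¬ p ^ 2 ∣ 808017424794512875886459904961710757005754368000000000) (hqS : q ∣ 448345497600)
    (hpS : ¬ p ∣ 448345497600) {y : ↥InstData.M.G} (hy : orderOf y = 3)
    (he : ¬ Odd (Nat.card ↥(centralizer ({y} : Set ↥InstData.M.G)))) :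
    (¬ p ∣ Nat.card ↥(centralizer ({y} : Set ↥InstData.M.G))) ∨ Spor.IsoTh (XX y) ∨ Spor.IsoFi24' (XX y) := by
  obtain ⟨g, hg⟩ := LThreeM.FiRow.exists_z_of_even hy he
  obtain ⟨x', k, hk⟩ := MFive.Model.exists_in ⟨g, hg⟩
  have hx' : orderOf x' = 3 := by
    rw [← Subgroup.orderOf_coe, MFive.Model.orderOf_of_conj hk, hy]
  rcases cases_in hp hq hp3 hp2 hqp hqd hM hqS hpS hx' with h | h | h
  · left
    refine not_dvd_conj (i := 1) Nat.prime_three hy (k := k⁻¹) (by rw [Subgroup.orderOf_coe, hx']) ?_ h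
    rw [pow_one, ← hk]
    group
  · right; left
    obtain ⟨-, ⟨f⟩⟩ := exists_XX_equiv hk
    exact isoTh_congr f h
  · right; right
    obtain ⟨-, ⟨f⟩⟩ := exists_XX_equiv hk
    exact isoFi24_congr f h

/-- `p`-elements do not commute with the elements of order 3 and the involutions of the class `2A` commuting with them -/
theorem false_three {p q : ℕ} (hp : p.Prime) (hq : q.Prime) (hp3 : p ≠ 3) (hp2 : p ≠ 2) (hqp : q ≠ p) (hqd : ¬ q ∣ p - 1)
    (hM : ¬ p ^ 2 ∣ 808017424794512875886459904961710757005754368000000000) (hqS : q ∣ 448345497600)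
    (hpS : ¬ p ∣ 448345497600) (hTh : NA p Spor.Th) (hFi : NA p Spor.Fi24') {x y t : ↥InstData.M.G}
    (hx : orderOf x = p) (hy : orderOf y = 3) (ht : orderOf t = 2) (hxy : x * y = y * x) (hty : t * y = y * t)
    (hxt : x * t = t * x) : False := by
  have hfin : Finite ↥InstData.M.G := MThirteen.Row.finite
  have h3 : ¬ Odd (Nat.card ↥(centralizer ({y} : Set ↥InstData.M.G))) := by
    rw [Nat.not_odd_iff_even, even_iff_two_dvd, ← ht,
      ← Subgroup.orderOf_mk t (mem_centralizer_singleton_iff.2 hty)]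
    exact orderOf_dvd_natCard _
  rcases cases_three hp hq hp3 hp2 hqp hqd hM hqS hpS hy h3 with h | ⟨⟨e⟩⟩ | ⟨⟨e⟩⟩
  · apply h
    rw [← hx, ← Subgroup.orderOf_mk x (mem_centralizer_singleton_iff.2 hxy)]
    exact orderOf_dvd_natCard _
  · exact false_of_NA Nat.prime_three hp hp3 (by norm_num) hy hx ht hxy hty hxt (hTh.of_equiv e.symm)
  · exact false_of_NA Nat.prime_three hp hp3 (by norm_num) hy hx ht hxy hty hxt (hFi.of_equiv e.symm)

/-! ### elements of order 5 -/

/-- `p`-elements do not commute with the elements of order 5 commuting with a conjugate of `z` and the involutions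
commuting with them -/
theorem false_five {p q : ℕ} (hp : p.Prime) (hq : q.Prime) (hp5 : p ≠ 5) (hp2 : p ≠ 2) (hqp : q ≠ p) (hqd : ¬ q ∣ p - 1)
    (hM : ¬ p ^ 2 ∣ 808017424794512875886459904961710757005754368000000000) (hqJ : q ∣ 604800)
    (hpJ : ¬ p ∣ 604800) (hHN : NA p Spor.HN) {x y t : ↥InstData.M.G}
    (hx : orderOf x = p) (hy : orderOf y = 5) (ht : orderOf t = 2) (hxy : x * y = y * x) (hty : t * y = y * t)
    (hxt : x * t = t * x)
    (hex : ∃ g : ↥InstData.M.G, (g * KDone.K.z * g⁻¹) * y = y * (g * KDone.K.z * g⁻¹)) : False := by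
  have hfin : Finite ↥InstData.M.G := MThirteen.Row.finite
  have hsim : IsSimpleGroup ↥InstData.M.G := MThirteen.Row.simple
  have : Fact p.Prime := ⟨hp⟩
  have : Fact q.Prime := ⟨hq⟩
  have h := KChart.chart KDone.lft MFive.Row.hc
  rcases MFive.Row.cases_model CpAutBFive.Final.coFive (MFiveHN.Closed.hnEight h) hy hex with
    ⟨⟨e⟩⟩ | ⟨y₀, k, i, hy₀, hfr, hk⟩
  · exact false_of_NA Nat.prime_five hp hp5 (by norm_num) hy hx ht hxy hty hxt (hHN.of_equiv e.symm)
  · have h1 : ¬ p ∣ Nat.card ↥(centralizer ({y} : Set ↥InstData.M.G)) := by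
      refine not_dvd_conj Nat.prime_five hy (by rw [Subgroup.orderOf_coe, hy₀]) hk ?_
      have hy₀' : orderOf (KChart.pi MFive.Row.hc y₀) = 5 := MFive.orderOf_pi h Nat.prime_five (by decide) hy₀
      obtain ⟨e⟩ := CpAutBFive.Final.hJ _ hy₀' hfr
      have hc : Nat.card (XX (KChart.pi MFive.Row.hc y₀)) = 604800 :=
        (Nat.card_congr e.toEquiv).trans Cfsg.Agent.S1619.result.2.2.2
      refine not_dvd_zero (r := 5) (p := p) (q := q) (m := 1) Nat.prime_five (by decide) hp5 hp2
        hqp (div_one hqd) (not_sq_dvd hM) h hy₀ hfr ?_ ((MulEquiv.isSimpleGroup_congr e).2 Cfsg.Agent.S1620.result.1) ?_ ?_ ?_ ?_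
      · intro d hd hc
        exact MFive.isolated h (MFive.KPair.trNe_five KDone.lft LThreeMBTr.tens MFive.Row.hc) hy₀ hfr d hd hc
      · rw [hc]; decide
      · rw [hc]; exact hqJ
      · rw [hc]; exact hpJ
      · exact PreUniq.MonRow.exists_kk Nat.prime_five (by decide) MThirteen.FiveRow.neg_five y₀ hy₀ hfr
    apply h1
    rw [← hx, ← Subgroup.orderOf_mk x (mem_centralizer_singleton_iff.2 hxy)]
    exact orderOf_dvd_natCard _

/-! ### the Baby Monster -/

theorem ncomm_quot {M : Type*} [Group M] [Finite M] {t : M} {X : Type*} [Group X]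
    (h2 : Nat.card ↥(center ↥(centralizer ({t} : Set M))) = 2)
    (e : ↥(centralizer ({t} : Set M)) ⧸ center ↥(centralizer ({t} : Set M)) ≃* X) {p q : ℕ} (hp : p.Prime)
    (hq : q.Prime) (hp2 : p ≠ 2) (hq2 : q ≠ 2)
    (h : ∀ x y : M, orderOf x = p → orderOf y = q → x * t = t * x → y * t = t * y → x * y ≠ y * x) {x y : X}
    (hx : orderOf x = p) (hy : orderOf y = q) : x * y ≠ y * x := by
  intro hc
  obtain ⟨a, b, ha, hb, hab⟩ := H478.SporConway.exists_lifts (Z := center ↥(centralizer ({t} : Set M))) le_rfl h2 hp hq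
    hp2 hq2 (x := e.symm x) (y := e.symm y) (by rw [MulEquiv.orderOf_eq, hx])
    (by rw [MulEquiv.orderOf_eq, hy]) (by rw [← map_mul, hc, map_mul])
  exact h a b (by rw [Subgroup.orderOf_coe, ha]) (by rw [Subgroup.orderOf_coe, hb])
    (mem_centralizer_singleton_iff.1 a.2) (mem_centralizer_singleton_iff.1 b.2) (congrArg Subtype.val hab)

/-- commuting lifts -/
theorem exists_lifts_four {M : Type*} [Group M] [Finite M] {t : M} {X : Type*} [Group X]
    (h2 : Nat.card ↥(center ↥(centralizer ({t} : Set M))) = 2)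
    (e : ↥(centralizer ({t} : Set M)) ⧸ center ↥(centralizer ({t} : Set M)) ≃* X) {p q : ℕ} (hp : p.Prime)
    (hq : q.Prime) (hp2 : p ≠ 2) (hq2 : q ≠ 2) {x y w : X} (hx : orderOf x = p) (hy : orderOf y = q)
    (hw : orderOf w = 2) (hxy : x * y = y * x) (hwy : w * y = y * w) :
    ∃ a b : M, orderOf a = p ∧ orderOf b = q ∧ a * b = b * a ∧ a * t = t * a ∧ b * t = t * b ∧
      4 ∣ Nat.card ↥(centralizer ({b} : Set M) ⊓ centralizer ({t} : Set M)) := by
  obtain ⟨b, hb, hby⟩ := BpSpor.Transfer.exists_lift hq (center ↥(centralizer ({t} : Set M)))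
    (by rw [h2]; exact (Nat.coprime_primes Nat.prime_two hq).2 (Ne.symm hq2)) (y := e.symm y)
    (by rw [MulEquiv.orderOf_eq, hy])
  obtain ⟨a, ha, hax⟩ := BpSpor.Transfer.exists_lift hp (center ↥(centralizer ({t} : Set M)))
    (by rw [h2]; exact (Nat.coprime_primes Nat.prime_two hp).2 (Ne.symm hp2)) (y := e.symm x)
    (by rw [MulEquiv.orderOf_eq, hx])
  have hbo : Odd (orderOf b) := by rw [hb]; exact hq.odd_of_ne_two hq2
  rw [QuotientGroup.mk'_apply] at hby hax
  have hab : a * b = b * a := by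
    refine H377.SporB.comm_of_quot le_rfl h2 hbo ?_
    rw [hax, hby, ← map_mul, hxy, map_mul]
  have h4 : 4 ∣ Nat.card ↥(centralizer ({b} : Set ↥(centralizer ({t} : Set M)))) := by
    refine H377.SporB.four_dvd le_rfl h2 hbo (w := e.symm w) (by rw [MulEquiv.orderOf_eq, hw]) ?_
    rw [hby, ← map_mul, hwy, map_mul]
  refine ⟨a, b, by rw [Subgroup.orderOf_coe, ha], by rw [Subgroup.orderOf_coe, hb], congrArg Subtype.val hab,
    mem_centralizer_singleton_iff.1 a.2, mem_centralizer_singleton_iff.1 b.2,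
    h4.trans (dvd_of_eq (Nat.card_congr ?_))⟩
  exact
    { toFun := fun c => ⟨((c : ↥(centralizer ({t} : Set M))) : M),
        Subgroup.mem_inf.2 ⟨mem_centralizer_singleton_iff.2
          (congrArg Subtype.val (mem_centralizer_singleton_iff.1 c.2)), c.1.2⟩⟩
      invFun := fun c => ⟨⟨c, (Subgroup.mem_inf.1 c.2).2⟩, mem_centralizer_singleton_iff.2 (Subtype.ext
        (mem_centralizer_singleton_iff.1 (Subgroup.mem_inf.1 c.2).1))⟩
      left_inv := fun _ => rfl
      right_inv := fun _ => rfl }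

/-- **elements of orders `p` and 3** -/
theorem ncomm_three {p q : ℕ} (hp : p.Prime) (hq : q.Prime) (hp3 : p ≠ 3) (hp2 : p ≠ 2) (hqp : q ≠ p) (hqd : ¬ q ∣ p - 1)
    (hM : ¬ p ^ 2 ∣ 808017424794512875886459904961710757005754368000000000) (hqS : q ∣ 448345497600)
    (hpS : ¬ p ∣ 448345497600) (hTh : NA p Spor.Th) (hFi : NA p Spor.Fi24') {x y : Spor.BabyMonster}
    (hx : orderOf x = p) (hy : orderOf y = 3) : x * y ≠ y * x := by
  have hfin : Finite ↥InstData.M.G := MThirteen.Row.finite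
  obtain ⟨t, ht, h2, ⟨e⟩⟩ := cover
  refine ncomm_quot h2 e hp Nat.prime_three hp2 (by norm_num) ?_ hx hy
  intro a b ha hb hat hbt hab
  exact false_three hp hq hp3 hp2 hqp hqd hM hqS hpS hTh hFi ha hb (orderOf_t ht) hab hbt.symm hat

/-- **elements of orders `p` and 5**: elements of order 5 commuting with an involution -/
theorem ncomm_five_even {p q : ℕ} (hp : p.Prime) (hq : q.Prime) (hp5 : p ≠ 5) (hp2 : p ≠ 2) (hqp : q ≠ p)
    (hqd : ¬ q ∣ p - 1) (hM : ¬ p ^ 2 ∣ 808017424794512875886459904961710757005754368000000000) (hqJ : q ∣ 604800)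
    (hpJ : ¬ p ∣ 604800) (hHN : NA p Spor.HN) {x y w : Spor.BabyMonster} (hx : orderOf x = p) (hy : orderOf y = 5)
    (hw : orderOf w = 2) (hwy : w * y = y * w) : x * y ≠ y * x := by
  have hfin : Finite ↥InstData.M.G := MThirteen.Row.finite
  obtain ⟨t, ht, h2, ⟨e⟩⟩ := cover
  intro hxy
  obtain ⟨a, b, ha, hb, hab, hat, hbt, h5⟩ := exists_lifts_four h2 e hp Nat.prime_five
    hp2 (by norm_num) hx hy hw hxy hwy
  obtain ⟨g, hg, -⟩ := CpAutBFive.EvenRow.exists_z_in hb ht hbt h5
  exact false_five hp hq hp5 hp2 hqp hqd hM hqJ hpJ hHN ha hb (orderOf_t ht) hab hbt.symm hat ⟨g, hg⟩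

/-- **elements of orders `p` and 5** -/
theorem ncomm_five {p q : ℕ} (hp : p.Prime) (hq : q.Prime) (hp5 : p ≠ 5) (hp2 : p ≠ 2) (hqp : q ≠ p)
    (hqd : ¬ q ∣ p - 1) (hM : ¬ p ^ 2 ∣ 808017424794512875886459904961710757005754368000000000) (hqJ : q ∣ 604800)
    (hpJ : ¬ p ∣ 604800) (hHN : NA p Spor.HN) (h5 : ¬ 5 ∣ p - 1)
    (hB : ¬ p ^ 2 ∣ 4154781481226426191177580544000000) (hdiv : ∀ k, k ≠ 0 → k ≤ 6 → ¬ p ∣ 5 ^ k - 1)
    {x y : Spor.BabyMonster} (hx : orderOf x = p) (hy : orderOf y = 5) : x * y ≠ y * x := by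
  have hfin := finite_b
  have : Fact (Nat.Prime 5) := ⟨Nat.prime_five⟩
  have : Fact (Nat.Prime p) := ⟨hp⟩
  obtain ⟨y0, w0, hy0, hw0, hc0⟩ := exists_five
  have hn0 : ¬ p ∣ Nat.card ↥(centralizer ({y0} : Set Spor.BabyMonster)) := by
    intro hd
    obtain ⟨u, hu⟩ := exists_prime_orderOf_dvd_card' (G := ↥(centralizer ({y0} : Set Spor.BabyMonster))) p hd
    exact ncomm_five_even hp hq hp5 hp2 hqp hqd hM hqJ hpJ hHN (x := (u : Spor.BabyMonster))
      (by rw [Subgroup.orderOf_coe, hu]) hy0 hw0 hc0 (mem_centralizer_singleton_iff.1 u.2)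
  refine H296.OneElt.not_comm (p := 5) (l := p) h5 (by rw [card_b]; exact hB) ?_ (y0 := y0)
    ⟨1, by rw [pow_one, ← hy0, pow_orderOf_eq_one]⟩ hn0 hx hy
  intro x y hx hy hxy
  by_cases ho : Odd (Nat.card ↥(centralizer ({y} : Set Spor.BabyMonster)))
  · refine H377.SporB.inCore_of_solvable (Ne.symm hp5) (fun k hk hd => ?_) hx hxy (Cfsg.Agent.S0205.result ho)
    have hk6 : k ≤ 6 := by
      by_contra hc
      have h1 : 5 ^ 7 ∣ Nat.card Spor.BabyMonster := (pow_dvd_pow 5 (by omega)).trans hd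
      rw [card_b] at h1
      norm_num at h1
    exact hdiv k hk hk6
  · exfalso
    rw [Nat.not_odd_iff_even, even_iff_two_dvd] at ho
    have : Fact (Nat.Prime 2) := ⟨Nat.prime_two⟩
    obtain ⟨w, hw⟩ := exists_prime_orderOf_dvd_card' (G := ↥(centralizer ({y} : Set Spor.BabyMonster))) 2 ho
    exact ncomm_five_even hp hq hp5 hp2 hqp hqd hM hqJ hpJ hHN (w := (w : Spor.BabyMonster)) hx hy
      (by rw [Subgroup.orderOf_coe, hw]) (mem_centralizer_singleton_iff.1 w.2) hxy

/-- **elements of orders `p` and 7** -/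
theorem ncomm_seven {p : ℕ} (hp : p.Prime) (hp2 : p ≠ 2) (hd : ¬ p ∣ 4030387200 * 7) {x y : Spor.BabyMonster}
    (hx : orderOf x = p) (hy : orderOf y = 7) : x * y ≠ y * x := by
  have hfin : Finite ↥InstData.M.G := MThirteen.Row.finite
  obtain ⟨t, ht, h2, ⟨e⟩⟩ := cover
  refine ncomm_quot h2 e hp (by norm_num) hp2 (by norm_num) ?_ hx hy
  intro a b ha hb hat hbt hab
  have h2 := H478.SporBaby.card_cent ht hb hbt
  have h3 : a ∈ centralizer ({b} : Set ↥InstData.M.G) := mem_centralizer_singleton_iff.2 hab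
  have h4 := orderOf_dvd_natCard (⟨a, h3⟩ : centralizer ({b} : Set ↥InstData.M.G))
  rw [Subgroup.orderOf_mk, ha, h2] at h4
  exact hd h4

end Cfsg.Agent.H256.Sep.BabyM
end

-- part: H256/Sep/RowB
section
/-!
# Row `B` of S5906/S5907 (helper256)

The normalizers of the Sylow subgroups for 5, 19, 31, 47, the centralizer of a 2-central involution and the subgroup `Fi23`;
no proper subgroup contains conjugates of the normalizers for 5, 19 and 31.
-/

set_option autoImplicit false
set_option maxRecDepth 100000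

namespace Cfsg.Agent.H256.Sep.RowB

open Subgroup Cfsg.Agent.OrdDiv Cfsg.Agent.H940 Cfsg.Agent.H940.Eng Cfsg.Agent.H940.Eng.D
open Cfsg.Agent.H940.MaxCls Cfsg.Agent.H393.Iso Cfsg.Agent.H163.PG Cfsg.Agent.H149.Sp

abbrev G : Type := Cfsg.Spor.BabyMonster

theorem simple : IsSimpleGroup G := (Cfsg.Agent.S1704.result : Cfsg.IsB Cfsg.Spor.BabyMonster).1
theorem card : Nat.card G = n_b := (Cfsg.Agent.S1704.result : Cfsg.IsB Cfsg.Spor.BabyMonster).2
theorem fin : Finite G := Nat.finite_of_card_ne_zero (by rw [card]; decide)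

theorem hna : ¬ ∀ a b : G, a * b = b * a := by
  have := fin
  have := simple
  exact not_comm' card (p := 2) (q := 3) (by decide +kernel) (by decide +kernel) (by decide +kernel) (by decide) (by decide +kernel)

theorem isoB : Spor.IsoB Cfsg.Spor.BabyMonster := ⟨MulEquiv.refl _⟩

/-! ### elements which do not commute -/

/-- no elements of orders `r` and `q` commute -/
def NC (r q : ℕ) : Prop := ∀ x y : G, orderOf x = r → orderOf y = q → x * y ≠ y * x

theorem NC.not_dvd {r q : ℕ} (hr : r.Prime) (hq : q.Prime) (h : NC r q) {R : Subgroup G} (hR : Nat.card R = r) :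
    ¬ q ∣ Nat.card (centralizer (R : Set G)) := by
  have := fin
  refine Cfsg.Agent.H940.Eng.not_dvd_cent hr hq hR fun y hy hd => ?_
  have := Fact.mk hr
  obtain ⟨z, hz⟩ := exists_prime_orderOf_dvd_card' r hd
  exact h (z : G) y (by rw [Subgroup.orderOf_coe, hz]) hy (mem_centralizer_singleton_iff.1 z.2)

theorem fin_th : Finite Cfsg.Spor.Th :=
  Nat.finite_of_card_ne_zero (by rw [Cfsg.Agent.S1700.result.2]; decide)

theorem fin_fi : Finite Cfsg.Spor.Fi24' :=
  Nat.finite_of_card_ne_zero (by rw [Cfsg.Agent.S1698.result.2]; decide)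

theorem fin_hn : Finite Cfsg.Spor.HN :=
  Nat.finite_of_card_ne_zero (by rw [Cfsg.Agent.S1701.result.2]; decide)

theorem th_of {p : ℕ} (h : ¬ p ∣ 90745943887872000) : NA p Cfsg.Spor.Th := by
  have := fin_th
  exact BabyM.na_of_not_dvd (by rw [Cfsg.Agent.S1700.result.2]; exact h)

theorem fi_of {p : ℕ} (h : ¬ p ∣ 1255205709190661721292800) : NA p Cfsg.Spor.Fi24' := by
  have := fin_fi
  exact BabyM.na_of_not_dvd (by rw [Cfsg.Agent.S1698.result.2]; exact h)

theorem hn_of {p : ℕ} (h : ¬ p ∣ 273030912000000) : NA p Cfsg.Spor.HN := by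
  have := fin_hn
  exact BabyM.na_of_not_dvd (by rw [Cfsg.Agent.S1701.result.2]; exact h)

theorem nc47_2 : NC 47 2 := na_b_all isoB (by norm_num) (by norm_num) (by norm_num) (by norm_num)
theorem nc31_2 : NC 31 2 := na_b_all isoB (by norm_num) (by norm_num) (by norm_num) (by norm_num)

theorem nc47 {p : ℕ} (hp : p = 3 ∨ p = 5 ∨ p = 7) : NC 47 p := fun _ _ hx hy => H377.SporB.ncomm hp hx hy

theorem adj {r s : ℕ} (hr : r.Prime) (hs : s.Prime) (hrs : r ≠ s) (h : ¬ Adj G r s) : NC r s :=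
  fun _ _ hx hy hxy => h (adj_of_commute hr hs hrs hx hy hxy)

theorem nc31_47 : NC 31 47 := adj (by norm_num) (by norm_num) (by norm_num) not_adj_b
theorem nc47_31 : NC 47 31 := fun _ _ hx hy hxy => nc31_47 _ _ hy hx hxy.symm

theorem nc31_3 : NC 31 3 := by
  have := fin_th
  exact fun _ _ hx hy => BabyM.ncomm_three (q := 7) (by norm_num) (by norm_num) (by norm_num) (by norm_num) (by norm_num)
    (by norm_num) (by norm_num) (by norm_num) (by norm_num) (na_th_all (by norm_num)) (fi_of (by norm_num)) hx hy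

theorem nc31_7 : NC 31 7 := fun _ _ hx hy => BabyM.ncomm_seven (by norm_num) (by norm_num) (by norm_num) hx hy

theorem nc19_3 : NC 19 3 := by
  have := fin_th
  exact fun _ _ hx hy => BabyM.ncomm_three (q := 5) (by norm_num) (by norm_num) (by norm_num) (by norm_num) (by norm_num)
    (by norm_num) (by norm_num) (by norm_num) (by norm_num) (na_th ⟨MulEquiv.refl _⟩) (fi_of (by norm_num)) hx hy

theorem nc19_7 : NC 19 7 := fun _ _ hx hy => BabyM.ncomm_seven (by norm_num) (by norm_num) (by norm_num) hx hy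

theorem not_dvd_five {p : ℕ} (h : (List.range 7).all (fun k => k == 0 || (5 ^ k - 1) % p != 0) = true) :
    ∀ k, k ≠ 0 → k ≤ 6 → ¬ p ∣ 5 ^ k - 1 := by
  intro k hk hk6 hd
  rw [List.all_eq_true] at h
  have h1 := h k (List.mem_range.2 (by omega))
  rw [Bool.or_eq_true, beq_iff_eq, bne_iff_ne] at h1
  rcases h1 with h1 | h1
  · exact hk h1
  · exact h1 (Nat.mod_eq_zero_of_dvd hd)

theorem nc19_5 : NC 19 5 := by
  have := fin_hn
  exact fun _ _ hx hy => BabyM.ncomm_five (q := 5) (by norm_num) (by norm_num) (by norm_num) (by norm_num) (by norm_num)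
    (by norm_num) (by norm_num) (by norm_num) (by norm_num) (na_hn ⟨MulEquiv.refl _⟩) (by norm_num) (by norm_num)
    (not_dvd_five (by decide)) hx hy

theorem nc23_7 : NC 23 7 := fun _ _ hx hy => BabyM.ncomm_seven (by norm_num) (by norm_num) (by norm_num) hx hy

theorem nc23_5 : NC 23 5 := fun _ _ hx hy =>
  BabyM.ncomm_five (q := 5) (by norm_num) (by norm_num) (by norm_num) (by norm_num) (by norm_num)
    (by norm_num) (by norm_num) (by norm_num) (by norm_num) (hn_of (by norm_num)) (by norm_num) (by norm_num)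
    (not_dvd_five (by decide)) hx hy

/-- elements of orders 23 and 2 of `Fi24'` do not commute -/
theorem na_fi23 : NA 23 Cfsg.Spor.Fi24' := by
  have := fin_fi
  have : IsSimpleGroup Cfsg.Spor.Fi24' := Cfsg.Agent.R08.FiTwentyFour.isFi24'.1
  have : Finite Cfsg.Spor.Fi24 := Cfsg.Agent.R08.FiTwentyFour.finite_Fi24
  have hc : Nat.card Cfsg.Spor.Fi24' = n_fi24p := Cfsg.Agent.R08.FiTwentyFour.isFi24'.2
  have hn : ¬ ∀ a b : Cfsg.Spor.Fi24', a * b = b * a :=
    not_comm' hc (p := 2) (q := 3) (by decide +kernel) (by decide +kernel) (by decide +kernel) (by decide) (by decide +kernel)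
  intro x t hx ht hxt
  have hR : Nat.card (zpowers x) = 23 := by rw [Nat.card_zpowers, hx]
  have hR' : Nat.card ((zpowers x).map (commutator Cfsg.Spor.Fi24).subtype : Subgroup Cfsg.Spor.Fi24) = 23 := by
    rw [card_map_of_injective (commutator Cfsg.Spor.Fi24).subtype_injective, hR]
  have h1 : Nat.card (centralizer ((zpowers x : Subgroup Cfsg.Spor.Fi24') : Set Cfsg.Spor.Fi24')) = 23 ∧
      Nat.card (normalizer ((zpowers x : Subgroup Cfsg.Spor.Fi24') : Set Cfsg.Spor.Fi24')) = 253 :=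
    cn_exact hn hc (r := 23) (by decide +kernel) (by decide +kernel) (fC := [(2, 1), (23, 1)]) (by decide +kernel) hR
      (((dvd_centralizer_map (zpowers x)).trans (FiData.data23 hR').1).trans (by decide +kernel)) (by decide +kernel) hR
  have h2 : t ∈ centralizer ((zpowers x : Subgroup Cfsg.Spor.Fi24') : Set Cfsg.Spor.Fi24') := by
    rw [mem_centralizer_iff]
    rintro _ ⟨k, rfl⟩
    exact ((show Commute x t from hxt).zpow_left k).eq
  have h3 := orderOf_dvd_natCard (⟨t, h2⟩ : centralizer ((zpowers x : Subgroup Cfsg.Spor.Fi24') : Set Cfsg.Spor.Fi24'))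
  rw [Subgroup.orderOf_mk, ht, h1.1] at h3
  revert h3
  decide

theorem nc23_3 : NC 23 3 := fun _ _ hx hy =>
  BabyM.ncomm_three (q := 5) (by norm_num) (by norm_num) (by norm_num) (by norm_num) (by norm_num)
    (by norm_num) (by norm_num) (by norm_num) (by norm_num) (th_of (by norm_num)) na_fi23 hx hy

/-! ### the local data -/

theorem dvd_aux {r : ℕ} (ps : List ℕ) (h : ∀ p ∈ ps, r.Prime ∧ p.Prime ∧ NC r p) {R : Subgroup G} (hR : Nat.card R = r) :
    Nat.card (centralizer (R : Set G)) ∣ prodl (l_b.filter fun x => !(ps.contains x.1)) := by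
  have := fin
  have h1 : Nat.card (centralizer (R : Set G)) ∣ n_b := by
    rw [← card]
    exact card_subgroup_dvd_card _
  exact dvd_filter v_b h1 ps fun p hp => (h p hp).2.2.not_dvd (h p hp).1 (h p hp).2.1 hR

theorem loc_weak {r C : ℕ} {fN : List (ℕ × ℕ)} (hr : isPrimeB r = true) (h2 : (n_b % (r ^ 2) != 0) = true)
    (hfN : (fN.all fun x => isPrimeB x.1) = true) (ps : List ℕ) (h : ∀ p ∈ ps, r.Prime ∧ p.Prime ∧ NC r p)
    (hC : (C % prodl (l_b.filter fun x => !(ps.contains x.1)) == 0) = true)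
    (hN : (prodl fN % (prodl (l_b.filter fun x => !(ps.contains x.1)) * (r - 1)) == 0) = true) : Loc G ⟨r, C, fN⟩ := by
  have := fin
  refine loc_of_eq card hr h2 hfN fun R hR => ?_
  have h3 := dvd_aux ps h hR
  rw [beq_iff_eq] at hC hN
  refine ⟨h3.trans (Nat.dvd_of_mod_eq_zero hC), ?_⟩
  have := Fact.mk (prime_of hr)
  obtain ⟨e, he, hN'⟩ := H904.SylOne.card_nc hR
  rw [hN']
  exact (mul_dvd_mul h3 he).trans (Nat.dvd_of_mod_eq_zero hN)

def ld47 : LD := ⟨47, 2170883, [(2, 1), (11, 1), (13, 1), (17, 1), (19, 1), (23, 1), (47, 1)]⟩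
def ld31 : LD := ⟨31, 514574328125, [(2, 1), (3, 1), (5, 7), (11, 1), (13, 1), (17, 1), (19, 1), (23, 1), (31, 1)]⟩
def ld23 : LD := ⟨23, 3403735230084817092608, [(2, 42), (11, 2), (13, 1), (17, 1), (19, 1), (23, 1), (31, 1), (47, 1)]⟩
def ld19 : LD := ⟨19, 3403735230084817092608, [(2, 42), (3, 2), (11, 1), (13, 1), (17, 1), (19, 1), (23, 1), (31, 1), (47, 1)]⟩

theorem loc47 : Loc G ld47 := by
  have := fin
  have := simple
  obtain ⟨R, hR⟩ := exists_card_eq (G := G) (r := 47) (by decide +kernel) (by rw [card]; decide +kernel)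
  refine loc_of_cent hna card (by decide +kernel) (by decide +kernel)
    (fC := [(11, 1), (13, 1), (17, 1), (19, 1), (23, 1), (47, 1)]) (by decide +kernel) hR ?_ (by decide +kernel)
    (by decide +kernel)
  refine (dvd_aux [2, 3, 5, 7, 31] ?_ hR).trans (by decide +kernel)
  intro p hp
  simp only [List.mem_cons, List.not_mem_nil, or_false] at hp
  rcases hp with rfl | rfl | rfl | rfl | rfl
  · exact ⟨by norm_num, by norm_num, nc47_2⟩
  · exact ⟨by norm_num, by norm_num, nc47 (Or.inl rfl)⟩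
  · exact ⟨by norm_num, by norm_num, nc47 (Or.inr (Or.inl rfl))⟩
  · exact ⟨by norm_num, by norm_num, nc47 (Or.inr (Or.inr rfl))⟩
  · exact ⟨by norm_num, by norm_num, nc47_31⟩

theorem loc31 : Loc G ld31 := by
  refine loc_weak (by decide +kernel) (by decide +kernel) (by decide +kernel) [2, 3, 7, 47] ?_ (by decide +kernel) (by decide +kernel)
  intro p hp
  simp only [List.mem_cons, List.not_mem_nil, or_false] at hp
  rcases hp with rfl | rfl | rfl | rfl
  · exact ⟨by norm_num, by norm_num, nc31_2⟩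
  · exact ⟨by norm_num, by norm_num, nc31_3⟩
  · exact ⟨by norm_num, by norm_num, nc31_7⟩
  · exact ⟨by norm_num, by norm_num, nc31_47⟩

theorem loc23 : Loc G ld23 := by
  refine loc_weak (by decide +kernel) (by decide +kernel) (by decide +kernel) [3, 5, 7] ?_ (by decide +kernel) (by decide +kernel)
  intro p hp
  simp only [List.mem_cons, List.not_mem_nil, or_false] at hp
  rcases hp with rfl | rfl | rfl
  · exact ⟨by norm_num, by norm_num, nc23_3⟩
  · exact ⟨by norm_num, by norm_num, nc23_5⟩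
  · exact ⟨by norm_num, by norm_num, nc23_7⟩

theorem loc19 : Loc G ld19 := by
  refine loc_weak (by decide +kernel) (by decide +kernel) (by decide +kernel) [3, 5, 7] ?_ (by decide +kernel) (by decide +kernel)
  intro p hp
  simp only [List.mem_cons, List.not_mem_nil, or_false] at hp
  rcases hp with rfl | rfl | rfl
  · exact ⟨by norm_num, by norm_num, nc19_3⟩
  · exact ⟨by norm_num, by norm_num, nc19_5⟩
  · exact ⟨by norm_num, by norm_num, nc19_7⟩

theorem ctx47 (B : Base) : Ctx G l_b n_b o_b [ld47] where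
  fin := fin
  simple := simple
  card := card
  val := v_b
  nodup := nd_b
  ords := ords_b B
  loc := by
    intro ld hld
    rw [List.mem_singleton.1 hld]
    exact loc47

theorem ctx (B : Base) : Ctx G l_b n_b o_b [ld31, ld23, ld19] where
  fin := fin
  simple := simple
  card := card
  val := v_b
  nodup := nd_b
  ords := ords_b B
  loc := by
    intro ld hld
    simp only [List.mem_cons, List.not_mem_nil, or_false] at hld
    rcases hld with rfl | rfl | rfl
    · exact loc31
    · exact loc23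
    · exact loc19

def W31 : WD := ⟨31, [31, 14880, 32736, 372000, 976500, 9999360, 5859000000, 7254000000, 20158709760, 50778000000, 23499295948800, 258492255436800, 24815256521932800, 90745943887872000, 50027557148216524800, 51615733565620224000, 361310134959341568000, 208114637736580743168000, 4154781481226426191177580544000000], [(4, 32), (128, 1024), (4096, 32768), (131072, 1048576), (4194304, 33554432), (134217728, 1073741824), (4294967296, 34359738368), (137438953472, 1099511627776), (9, 4782969), (7, 343), (47, 2209)]⟩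
def W23 : WD := ⟨23, [23, 6072, 51888, 10200960, 244823040, 495766656000, 42305421312000, 4089470473293004800, 4157776806543360000, 4154781481226426191177580544000000], [(3, 177147), (531441, 4782969), (5, 78125), (7, 343)]⟩
def W19 : WD := ⟨19, [19, 3420, 175560, 5515776, 50232960, 34693789777920, 273030912000000, 60822550204416000, 90745943887872000, 1216451004088320000, 76532479683774853939200, 4154781481226426191177580544000000], [(27, 4782969), (5, 78125), (7, 343)]⟩

theorem ok31 : W31.ok ld31 o_b [(2, 2, 5, 1), (2, 7, 10, 1), (2, 12, 15, 1), (2, 17, 20, 1), (2, 22, 25, 1), (2, 27, 30, 1), (2, 32, 35, 1), (2, 37, 40, 1), (3, 2, 14, 1), (7, 1, 3, 0), (47, 1, 2, 0)] = true := by decide +kernel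

theorem ok23 : W23.ok ld23 o_b [(3, 1, 11, 0), (3, 12, 14, 0), (5, 1, 7, 0), (7, 1, 3, 0)] = true := by decide +kernel

theorem ok19 : W19.ok ld19 o_b [(3, 3, 14, 2), (5, 1, 7, 0), (7, 1, 3, 0)] = true := by decide +kernel

def bw : ℕ → Bool := badWs [W31, W23, W19]

theorem bw_false (B : Base) (K : Subgroup G) : bw (Nat.card K) = false := by
  refine badWs_false fun F hF => ?_
  simp only [List.mem_cons, List.not_mem_nil, or_false] at hF
  rcases hF with rfl | rfl | rfl
  · exact WD.bad_eq (ctx B) (by simp) ok31 K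
  · exact WD.bad_eq (ctx B) (by simp) ok23 K
  · exact WD.bad_eq (ctx B) (by simp) ok19 K

/-! ### the subgroups -/

/-- the centralizer of a 2-central involution -/
theorem exists_cz : ∃ A : Subgroup G, A ≠ ⊤ ∧ 354883595661213696000 ∣ Nat.card A := by
  have A := Cfsg.Agent.BabyM.Instance.all
  have h1 : Nat.card (Subgroup.centralizer ({Cfsg.Agent.BabyU.ClosModel.zz A} : Set Cfsg.Agent.BabyM.Inst.M.G)) =
      2 ^ 23 * 42305421312000 := by
    rw [Nat.card_congr (Cfsg.Agent.KFacts.Baby.Inst.eC A).toEquiv, A.grp.card_C]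
  let φ := BM.KHAll.iso
  have h2 : Nat.card ((Subgroup.centralizer ({Cfsg.Agent.BabyU.ClosModel.zz A} : Set Cfsg.Agent.BabyM.Inst.M.G)).map
      φ.symm.toMonoidHom : Subgroup G) = 2 ^ 23 * 42305421312000 := by
    rw [← h1]
    exact card_map_of_injective φ.symm.injective
  refine ⟨_, ?_, (show 354883595661213696000 ∣ 2 ^ 23 * 42305421312000 by decide +kernel).trans h2.symm.dvd⟩
  intro h
  rw [h, card_top] at h2
  exact absurd (card.symm.trans h2) (by decide +kernel)

/-- the subgroup `Fi23` -/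
theorem exists_fi : ∃ A : Subgroup G, A ≠ ⊤ ∧ 4089470473293004800 ∣ Nat.card A := by
  obtain ⟨f, hf⟩ := H820.ElB.exists_hom
  have h1 : Nat.card f.range = 4089470473293004800 := by
    rw [Nat.card_congr (MonoidHom.ofInjective hf).toEquiv.symm, Cfsg.Agent.S1697.result.2]
  refine ⟨f.range, ?_, dvd_of_eq h1.symm⟩
  intro h
  rw [h, card_top] at h1
  exact absurd (card.symm.trans h1) (by decide +kernel)

theorem chk_P5_CZ : chkG n_b 44360449457651712000000 [(3, 7), (7, 1), (13, 1), (17, 1), (19, 1), (31, 1), (47, 1)] [] ([5] ++ []) 60 bw = true := by decide +kernel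

theorem chk_P5_Fi : chkG n_b 2555919045808128000000 [(2, 23), (7, 1), (19, 1), (31, 1), (47, 1)] [] ([5] ++ []) 60 bw = true := by decide +kernel

theorem chk_P19_CZ : chkG n_b 6742788317563060224000 [(3, 7), (5, 3), (7, 1), (13, 1), (17, 1), (31, 1), (47, 1)] [] ([19] ++ []) 60 bw = true := by decide +kernel

theorem chk_P19_Fi : chkG n_b 77699938992567091200 [(2, 23), (5, 4), (7, 1), (31, 1), (47, 1)] [] ([19] ++ []) 60 bw = true := by decide +kernel

theorem chk_P31_CZ : chkG n_b 11001391465497624576000 [(3, 7), (5, 3), (7, 1), (13, 1), (17, 1), (19, 1), (47, 1)] [] ([31] ++ []) 60 bw = true := by decide +kernel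

theorem chk_P31_Fi : chkG n_b 126773584672083148800 [(2, 23), (5, 4), (7, 1), (19, 1), (47, 1)] [] ([31] ++ []) 60 bw = true := by decide +kernel

theorem chk_CZ_Fi : chkG n_b 171524823640147432046592000 [(5, 3), (7, 1), (19, 1), (31, 1), (47, 1)] [] ([] ++ []) 60 bw = true := by decide +kernel

private theorem allP_of {f : ℕ → Bool} {p : ℕ} : ∀ e m : ℕ, (∀ k ≤ e, f (m * p ^ k) = true) → allP f p e m = true
  | 0, m, h => Nat.mul_one m ▸ h 0 (Nat.le_refl 0)
  | e + 1, m, h => by
    have h0 : f m = true := Nat.mul_one m ▸ h 0 (Nat.zero_le _)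
    show bc (f m) (frc (m * p) (allP f p e)) false = true
    rw [h0, bc_true, frc_eq]
    refine allP_of e _ fun k hk => ?_
    rw [Nat.mul_assoc, ← Nat.pow_succ']
    exact h _ (Nat.succ_le_succ hk)

private theorem allD_of {f : ℕ → Bool} : ∀ (l : List (ℕ × ℕ)) (m : ℕ), (∀ d ∈ divsT l, f (m * d) = true) →
    allD f l m = true
  | [], m, h => Nat.mul_one m ▸ h 1 (List.mem_singleton.2 rfl)
  | x :: l, m, h => allP_of _ _ fun k hk => allD_of l _ fun d hd => (Nat.mul_assoc m (x.1 ^ k) d).symm ▸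
    h _ (List.mem_flatMap.2 ⟨k, List.mem_range.2 (Nat.lt_succ_of_le hk), List.mem_map.2 ⟨d, hd, rfl⟩⟩)

theorem chk_P5_P31 : chkG n_b 484375 [(2, 41), (3, 13), (7, 2), (11, 1), (13, 1), (17, 1), (19, 1), (23, 1), (47, 1)] [190931779584000000, 200206481709072384000000] ([5] ++ [31]) 60 bw = true := by
  refine Bool.and_eq_true_iff.2 ⟨by decide +kernel, allD_of _ _ fun d hd => ?_⟩
  rw [Nat.one_mul]
  refine (Cfsg.Agent.H940.EngF.enumF_spec [31] (by decide +kernel) d hd).elim (fun h => ?_) id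
  have h1 : Nat.beq (d % 31) 1 = false := Bool.eq_false_iff.2 fun h2 =>
    bne_iff_ne.1 ((Bool.or_false _).symm.trans h) (Nat.eq_of_beq_eq_true h2)
  show bc (bc (Nat.beq (d % 5) 1) (bc (Nat.beq (d % 31) 1) false true) true) true _ = true
  rw [h1]
  cases Nat.beq (d % 5) 1 <;> rfl

theorem chk_P47 : chkO2 l_b n_b 47 ld47 [1081, 51888, 4341766, 9068085248, 435268091904, 36421373001728] [47] 60 [ld47] o_b = true := by exact Cfsg.Agent.H940.EngF.chkO2_fast (by decide +kernel)


/-- five classes of maximal subgroups of the Baby Monster -/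
theorem five (B : Base) : MaxCls.Sep 5 Cfsg.Spor.BabyMonster := by
  have := fin
  have c := ctx B
  have hB := bw_false B
  obtain ⟨C, hC, hCd⟩ := exists_cz
  obtain ⟨F, hF, hFd⟩ := exists_fi
  obtain ⟨A5, h5, h5d, h5f⟩ := sylow_item c (p := 5) (e := 6) (q := 2) (by decide +kernel) (by decide) (by decide +kernel)
    (by decide +kernel) (by decide) (by decide +kernel)
  obtain ⟨A19, h19, h19d, h19f⟩ := prime_item c (r := 19) (q := 2) (by decide +kernel) (by decide +kernel)
    (by decide +kernel) (by decide) (by decide +kernel)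
  obtain ⟨A31, h31, h31d, h31f⟩ := prime_item c (r := 31) (q := 2) (by decide +kernel) (by decide +kernel)
    (by decide +kernel) (by decide) (by decide +kernel)
  obtain ⟨A47, h47, h47d, h47f⟩ := prime_item c (r := 47) (q := 2) (by decide +kernel) (by decide +kernel)
    (by decide +kernel) (by decide) (by decide +kernel)
  have e : ∀ p ∈ ([] : List ℕ), Full p C := fun p hp => absurd hp List.not_mem_nil
  have e' : ∀ p ∈ ([] : List ℕ), Full p F := fun p hp => absurd hp List.not_mem_nil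
  have a5C := apartG c hB h5d hCd (by decide +kernel) _ _ _ _ h5f e chk_P5_CZ
  have a5F := apartG c hB h5d hFd (by decide +kernel) _ _ _ _ h5f e' chk_P5_Fi
  have a19C := apartG c hB h19d hCd (by decide +kernel) _ _ _ _ h19f e chk_P19_CZ
  have a19F := apartG c hB h19d hFd (by decide +kernel) _ _ _ _ h19f e' chk_P19_Fi
  have a31C := apartG c hB h31d hCd (by decide +kernel) _ _ _ _ h31f e chk_P31_CZ
  have a31F := apartG c hB h31d hFd (by decide +kernel) _ _ _ _ h31f e' chk_P31_Fi
  have aCF := apartG c hB hCd hFd (by decide +kernel) _ _ _ _ e e' chk_CZ_Fi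
  have o47 : ∀ K : Subgroup G, A47 ≤ K → K ≠ ⊤ → Nat.card K ∈ [1081, 51888, 4341766, 9068085248, 435268091904, 36421373001728] := fun K h1 h2 =>
    (ctx47 B).orders2 ld47 (List.mem_singleton_self _) _ [47] 60 chk_P47 (h47d.trans (card_dvd_of_le h1))
      (fun p hp => (h47f p hp).mono h1) h2
  have b5 : MaxCls.Apart A47 A5 := apart_of_orders card h5d h5f o47 (by decide +kernel)
  have b19 : MaxCls.Apart A47 A19 := apart_of_orders card h19d h19f o47 (by decide +kernel)
  have b31 : MaxCls.Apart A47 A31 := apart_of_orders card h31d h31f o47 (by decide +kernel)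
  have bC : MaxCls.Apart A47 C := apart_of_orders card hCd e o47 (by decide +kernel)
  have bF : MaxCls.Apart A47 F := apart_of_orders card hFd e' o47 (by decide +kernel)
  have hkey : ∀ K : Subgroup G, K ≠ ⊤ → A5 ≤ K → (∃ g : G, ∀ x ∈ A31, g * x * g⁻¹ ∈ K) →
      (∃ g : G, ∀ x ∈ A19, g * x * g⁻¹ ∈ K) → False := by
    rintro K hK h1 ⟨g, hg⟩ ⟨g', hg'⟩
    have h2 := ordersG₂ c hB h5d h31d (by decide +kernel) _ _ _ _ _ h5f h31f chk_P5_P31 h1 hg hK
    have h3 : 19 ∣ Nat.card K := by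
      refine h19d.trans ?_
      rw [← MaxCls.card_map_conj g']
      exact card_dvd_of_le (MaxCls.map_conj_le hg')
    simp only [List.mem_cons, List.not_mem_nil, or_false] at h2
    rcases h2 with h2 | h2 <;> rw [h2] at h3 <;> revert h3 <;> decide +kernel
  rcases pair_of_three h5 h31 h19 hkey with ⟨X, Y, hX, hY, hXt, hYt, hXY⟩ | ⟨X, Y, hX, hY, hXt, hYt, hXY⟩
  · exact sep_five h47 hC hF hXt hYt bC bF (b5.mono le_rfl hX) (b31.mono le_rfl hY) aCF
      (a5C.symm.mono le_rfl hX) (a31C.symm.mono le_rfl hY) (a5F.symm.mono le_rfl hX) (a31F.symm.mono le_rfl hY) hXY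
  · exact sep_five h47 hC hF hXt hYt bC bF (b5.mono le_rfl hX) (b19.mono le_rfl hY) aCF
      (a5C.symm.mono le_rfl hX) (a19C.symm.mono le_rfl hY) (a5F.symm.mono le_rfl hX) (a19F.symm.mono le_rfl hY) hXY

end Cfsg.Agent.H256.Sep.RowB
end
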